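import Groth.Agent.H10Coh.SheafHom.Adj
import Groth.Agent.H10Coh.FlatBC.Transpose
import Groth.Agent.H17.PrinOmega
import Groth.Agent.H17.PullSect
import Groth.Agent.H8Props.FinLocFree.Sheaf
import Mathlib.RingTheory.TensorProduct.IsBaseChangeHom

/-!
# The sheaf Hom out of a finite locally free module commutes with affine inverse images
-/

set_option autoImplicit false
set_option linter.style.haveILetI false
set_option linter.unusedSectionVars false

universe u

open CategoryTheory CategoryTheory.Limits AlgebraicGeometry Opposite TopologicalSpace TensorProduct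

namespace Groth.Agent.H10Coh.SheafHom

open Groth.Agent.H29Ref Groth.Agent.H10Coh.FBC H8Props.PullSections

variable {X X' : Scheme.{u}} {F G : X.Modules}

theorem toLin_res {U V : X.Opens} (h : V ≤ U) (f : Γ(RefHull.homSh F G, U)) (m : Γ(F, U)) :
    toLin ((RefHull.homSh F G).presheaf.map (homOfLE h).op f) (F.presheaf.map (homOfLE h).op m) =
      G.presheaf.map (homOfLE h).op (toLin f m) :=
  sec_ext G fun y hy => by
    refine (germ_toLin _ _ ⟨y, hy⟩).trans ?_
    refine Eq.trans ?_ (G.presheaf.germ_res_apply (homOfLE h) y hy _).symm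
    refine Eq.trans ?_ (germ_toLin f m ⟨y, h hy⟩).symm
    rw [F.presheaf.germ_res_apply (homOfLE h) y hy m]
    rfl

theorem toLin_ofHom (φ : F ⟶ G) (U : X.Opens) (m : Γ(F, U)) : toLin (RefHull.ofHom φ U) m = φ.app U m :=
  sec_ext G fun y hy => (germ_toLin _ _ ⟨y, hy⟩).trans (RefHull.stalkMapₗ_germ φ y hy m)

theorem ofHom_injective {φ φ' : F ⟶ G} (h : RefHull.ofHom φ ⊤ = RefHull.ofHom φ' ⊤) : φ = φ' :=
  Scheme.Modules.hom_ext _ _ fun U => ConcreteCategory.hom_ext _ _ fun m => by
    refine sec_ext G fun y hy => ?_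
    rw [← RefHull.stalkMapₗ_germ, ← RefHull.stalkMapₗ_germ]
    exact LinearMap.congr_fun (congrFun (congrArg Subtype.val h) ⟨y, trivial⟩) _

theorem ofHom_surjective (s : Γ(RefHull.homSh F G, ⊤)) : ∃ φ : F ⟶ G, RefHull.ofHom φ ⊤ = s := by
  let res := fun U : X.Opens => (RefHull.homSh F G).presheaf.map (homOfLE (le_top : U ≤ ⊤)).op s
  obtain ⟨φ, hφ⟩ := H17.PrinOmega.exists_hom_of_basis F G (fun _ => True) (fun W x hx => ⟨W, trivial, hx, le_rfl⟩)
    (fun U _ => toLin (res U)) fun U U' _ _ e m => by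
      refine sec_ext G fun y hy => ?_
      refine (germ_toLin _ _ ⟨y, hy⟩).trans ?_
      refine Eq.trans ?_ (G.presheaf.germ_res_apply (homOfLE e) y hy _).symm
      refine Eq.trans ?_ (germ_toLin _ _ ⟨y, e hy⟩).symm
      rw [F.presheaf.germ_res_apply (homOfLE e) y hy m]
      rfl
  refine ⟨φ, Subtype.ext (funext fun y => LinearMap.ext fun v => ?_)⟩
  obtain ⟨U, hU, m, rfl⟩ := TopCat.Presheaf.exists_germ_eq F.presheaf v
  refine (RefHull.stalkMapₗ_germ φ y.1 hU m).trans ?_
  rw [hφ U trivial m]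
  exact germ_toLin _ _ ⟨y.1, hU⟩

/-- The affine opens over which the sections of `F` are free of finite rank. -/
def FreeOn (F : X.Modules) (U : X.Opens) : Prop :=
  IsAffineOpen U ∧ Module.Free Γ(X, U) Γ(F, U) ∧ Module.Finite Γ(X, U) Γ(F, U)

theorem exists_freeOn (hF : FlatMod.IsFinLocFree F) (W : X.Opens) (x : X) (hx : x ∈ W) :
    ∃ U, FreeOn F U ∧ x ∈ U ∧ U ≤ W := by
  obtain ⟨V, n, hxV, ⟨e⟩⟩ := hF x
  obtain ⟨U, hU, hxU, hle⟩ := exists_isAffineOpen_mem_and_subset (U := W ⊓ V) (x := x) ⟨hx, hxV⟩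
  exact ⟨U, ⟨hU, H8Props.FinLocFree.free_finite_of_chart F e fun y hy => (hle hy).2⟩, hxU,
    fun y hy => (hle hy).1⟩

variable (q : X' ⟶ X)

/-- The inverse image of modules. -/
noncomputable abbrev qP (q : X' ⟶ X) (F : X.Modules) : X'.Modules := (Scheme.Modules.pullback q).obj F

theorem pullLin_self (F : X.Modules) (U : X.Opens) (m : Γ(F, U)) :
    pullLin q F (le_refl (q ⁻¹ᵁ U)) m = OmegaSh.pullSect q F U m :=
  ConcreteCategory.congr_hom ((qP q F).presheaf.map_id (op (q ⁻¹ᵁ U))) _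

/-- Linear maps on the sections of an inverse image agreeing on pulled back sections are equal. -/
theorem ext_pullLin [F.IsQuasicoherent] {M : X'.Modules} {V : X.Opens} {V' : X'.Opens} (hV : IsAffineOpen V)
    (hV' : IsAffineOpen V') (h : V' ≤ q ⁻¹ᵁ V) (a b : Γ(qP q F, V') →ₗ[Γ(X', V')] Γ(M, V'))
    (he : ∀ m, a (pullLin q F h m) = b (pullLin q F h m)) : a = b := by
  letI := (q.appLE V V' h).hom.toAlgebra
  letI := Module.compHom Γ(qP q F, V') (q.appLE V V' h).hom
  letI := Module.compHom Γ(M, V') (q.appLE V V' h).hom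
  haveI : IsScalarTower Γ(X, V) Γ(X', V') Γ(qP q F, V') := .of_algebraMap_smul fun _ _ => rfl
  haveI : IsScalarTower Γ(X, V) Γ(X', V') Γ(M, V') := .of_algebraMap_smul fun _ _ => rfl
  exact (isBaseChange_pullLin q F h inferInstance hV hV').algHom_ext a b he

variable [IsAffineHom q] [F.IsQuasicoherent] [G.IsQuasicoherent]

/-- Base change of a section of the sheaf Hom over an affine open. -/
theorem existsUnique_bcHom {U : X.Opens} (hU : IsAffineOpen U) (f : Γ(RefHull.homSh F G, U)) :
    ∃! g : Γ(RefHull.homSh (qP q F) (qP q G), q ⁻¹ᵁ U),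
      ∀ m, toLin g (OmegaSh.pullSect q F U m) = OmegaSh.pullSect q G U (toLin f m) := by
  have hq := H29Fitt.isQCoh_pullback q F inferInstance
  have hU' := hU.preimage q
  let h := le_refl (q ⁻¹ᵁ U)
  letI := (q.appLE U _ h).hom.toAlgebra
  letI := Module.compHom Γ(qP q F, q ⁻¹ᵁ U) (q.appLE U _ h).hom
  letI := Module.compHom Γ(qP q G, q ⁻¹ᵁ U) (q.appLE U _ h).hom
  haveI : IsScalarTower Γ(X, U) Γ(X', q ⁻¹ᵁ U) Γ(qP q F, q ⁻¹ᵁ U) := .of_algebraMap_smul fun _ _ => rfl
  haveI : IsScalarTower Γ(X, U) Γ(X', q ⁻¹ᵁ U) Γ(qP q G, q ⁻¹ᵁ U) := .of_algebraMap_smul fun _ _ => rfl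
  have j := isBaseChange_pullLin q F h inferInstance hU hU'
  obtain ⟨g, hg⟩ := (bijective_toLinₗ (qP q F) (qP q G) hq hU').2
    (IsBaseChange.linearMapLeftRightHom j (pullLin q G h) (toLin f))
  refine ⟨g, fun m => ?_, fun g' hg' => (bijective_toLinₗ (qP q F) (qP q G) hq hU').1
    (ext_pullLin q hU hU' h _ _ fun m => ?_)⟩
  · rw [← pullLin_self, ← pullLin_self]
    exact (LinearMap.congr_fun hg _).trans (IsBaseChange.linearMapLeftRightHom_comp_apply j _ _ m)
  · rw [hg, IsBaseChange.linearMapLeftRightHom_comp_apply, pullLin_self, pullLin_self]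
    exact hg' m

/-- The base change of sections, on affine opens. -/
noncomputable def bcSec {U : X.Opens} (hU : IsAffineOpen U) :
    Γ(RefHull.homSh F G, U) →ₗ[Γ(X, U)]
      Γ((Scheme.Modules.pushforward q).obj (RefHull.homSh (qP q F) (qP q G)), U) where
  toFun f := (existsUnique_bcHom q hU f).choose
  map_add' f f' := ((existsUnique_bcHom q hU (f + f')).choose_spec.2 _ fun m => by
    show toLinₗ (qP q F) (qP q G) _
      ((existsUnique_bcHom q hU f).choose + (existsUnique_bcHom q hU f').choose) _ = _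
    rw [map_add, LinearMap.add_apply]
    show toLin _ _ + toLin _ _ = OmegaSh.pullSect q G U (toLinₗ F G U (f + f') m)
    rw [(existsUnique_bcHom q hU f).choose_spec.1, (existsUnique_bcHom q hU f').choose_spec.1, map_add,
      LinearMap.add_apply, map_add]
    rfl).symm
  map_smul' r f := ((existsUnique_bcHom q hU (r • f)).choose_spec.2 _ fun m => by
    show toLinₗ (qP q F) (qP q G) _ (q.app U r • (existsUnique_bcHom q hU f).choose) _ = _
    rw [map_smul, LinearMap.smul_apply]
    show q.app U r • toLin _ _ = OmegaSh.pullSect q G U (toLinₗ F G U (r • f) m)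
    rw [(existsUnique_bcHom q hU f).choose_spec.1, map_smul, LinearMap.smul_apply, OmegaSh.pullSect_smul]
    rfl).symm

theorem bcSec_spec {U : X.Opens} (hU : IsAffineOpen U) (f : Γ(RefHull.homSh F G, U)) (m : Γ(F, U)) :
    toLin (F := qP q F) (G := qP q G) (U := q ⁻¹ᵁ U) (bcSec q hU f) (OmegaSh.pullSect q F U m) =
      OmegaSh.pullSect q G U (toLin f m) :=
  (existsUnique_bcHom q hU f).choose_spec.1 m

/-- `q^* 𝓗om(F, G) ≅ 𝓗om(q^* F, q^* G)`, compatibly with morphisms. -/
theorem exists_pullIso (hF : FlatMod.IsFinLocFree F) :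
    ∃ c : qP q (RefHull.homSh F G) ≅ RefHull.homSh (qP q F) (qP q G), ∀ φ : F ⟶ G,
      c.hom.app ⊤ (OmegaSh.pullSect q (RefHull.homSh F G) ⊤ (RefHull.ofHom φ ⊤)) =
        RefHull.ofHom ((Scheme.Modules.pullback q).map φ) ⊤ := by
  have hq := H29Fitt.isQCoh_pullback q F inferInstance
  obtain ⟨τ, hτ⟩ := H17.PrinOmega.exists_hom_of_basis (RefHull.homSh F G)
    ((Scheme.Modules.pushforward q).obj (RefHull.homSh (qP q F) (qP q G))) (FreeOn F) (exists_freeOn hF)
    (fun U hU => bcSec q hU.1) fun U U' hU hU' e f => by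
      refine (bijective_toLinₗ (qP q F) (qP q G) hq (hU'.1.preimage q)).1 ?_
      refine ext_pullLin q hU.1 (hU'.1.preimage q) (fun y hy => e hy) _ _ fun m => ?_
      show toLin _ ((qP q F).presheaf.map _ (OmegaSh.pullSect q F U m)) =
        toLin ((RefHull.homSh (qP q F) (qP q G)).presheaf.map _ (bcSec q hU.1 f))
          ((qP q F).presheaf.map _ (OmegaSh.pullSect q F U m))
      refine Eq.trans ?_ (toLin_res (F := qP q F) (G := qP q G) (fun y hy => e hy) _ _).symm
      refine Eq.trans ?_ (congrArg ((qP q G).presheaf.map (homOfLE (fun y hy => e hy : q ⁻¹ᵁ U' ≤ q ⁻¹ᵁ U)).op)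
        (bcSec_spec q hU.1 f m)).symm
      refine (congrArg (toLin (F := qP q F) (G := qP q G) (U := q ⁻¹ᵁ U')
        (bcSec q hU'.1 ((RefHull.homSh F G).presheaf.map (homOfLE e).op f)))
        (OmegaSh.pullSect_map q F e m).symm).trans ?_
      refine (bcSec_spec q hU'.1 _ _).trans ?_
      exact (congrArg (OmegaSh.pullSect q G U') (toLin_res e f m)).trans (OmegaSh.pullSect_map q G e _)
  let ψ := ((Scheme.Modules.pullbackPushforwardAdjunction q).homEquiv (RefHull.homSh F G)
    (RefHull.homSh (qP q F) (qP q G))).symm τ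
  have hψ : (Scheme.Modules.pullbackPushforwardAdjunction q).unit.app (RefHull.homSh F G) ≫
      (Scheme.Modules.pushforward q).map ψ = τ :=
    ((Scheme.Modules.pullbackPushforwardAdjunction q).homEquiv_unit _ _ ψ).symm.trans (Equiv.apply_symm_apply _ τ)
  have hψs : ∀ (V : X.Opens) (f : Γ(RefHull.homSh F G, V)),
      ψ.app (q ⁻¹ᵁ V) (OmegaSh.pullSect q _ V f) = τ.app V f := fun V f =>
    congr($(congrArg (fun k => Scheme.Modules.Hom.app k V) hψ) f)
  haveI : IsIso ψ := by
    haveI : IsIso ((shF X').map ψ) := by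
      refine TopCat.Sheaf.isIso_iff_isIso_basis
        (B := fun i : {V' : X'.Opens // IsAffineOpen V' ∧ ∃ V : X.Opens, FreeOn F V ∧ V' ≤ q ⁻¹ᵁ V} => i.1)
        ?_ fun ⟨V', hV', V, ⟨hV, hfree, hfin⟩, hle⟩ => (ConcreteCategory.isIso_iff_bijective _).2 ?_
      · rw [Opens.isBasis_iff_nbhd]
        intro W x hx
        obtain ⟨V, hV, hxV, -⟩ := exists_freeOn hF ⊤ (q.base x) trivial
        obtain ⟨V', hV', hxV', hle⟩ := exists_isAffineOpen_mem_and_subset (U := q ⁻¹ᵁ V ⊓ W) (x := x) ⟨hxV, hx⟩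
        exact ⟨V', ⟨⟨V', hV', V, hV, fun y hy => (hle hy).1⟩, rfl⟩, hxV', fun y hy => (hle hy).2⟩
      letI := (q.appLE V V' hle).hom.toAlgebra
      letI := Module.compHom Γ(qP q F, V') (q.appLE V V' hle).hom
      letI := Module.compHom Γ(qP q G, V') (q.appLE V V' hle).hom
      letI := Module.compHom Γ(qP q (RefHull.homSh F G), V') (q.appLE V V' hle).hom
      haveI : IsScalarTower Γ(X, V) Γ(X', V') Γ(qP q F, V') := .of_algebraMap_smul fun _ _ => rfl
      haveI : IsScalarTower Γ(X, V) Γ(X', V') Γ(qP q G, V') := .of_algebraMap_smul fun _ _ => rfl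
      haveI : IsScalarTower Γ(X, V) Γ(X', V') Γ(qP q (RefHull.homSh F G), V') :=
        .of_algebraMap_smul fun _ _ => rfl
      haveI := hfree
      haveI := hfin
      have jH := isBaseChange_pullLin q (RefHull.homSh F G) hle
        (isQCoh_homSh F G (H8Props.FinLocFree.isFP_of_isFinLocFree F hF) inferInstance) hV hV'
      have jF := isBaseChange_pullLin q F hle inferInstance hV hV'
      have k := isBaseChange_pullLin q G hle inferInstance hV hV'
      have L := IsBaseChange.linearMapLeftRight jF k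
      let e₀ : (Γ(X', V') ⊗[Γ(X, V)] Γ(RefHull.homSh F G, V)) ≃ₗ[Γ(X', V')]
          (Γ(X', V') ⊗[Γ(X, V)] (Γ(F, V) →ₗ[Γ(X, V)] Γ(G, V))) :=
        (LinearEquiv.ofBijective _ (bijective_toLinₗ F G inferInstance hV)).baseChange _ Γ(X', V') _ _
      have key : ∀ z, toLinₗ (qP q F) (qP q G) V' (ψ.app V' (jH.equiv z)) = L.equiv (e₀ z) := fun z => by
        induction z using TensorProduct.induction_on with
        | zero => simp
        | add a b ha hb =>
          refine Eq.trans (b := toLinₗ (qP q F) (qP q G) V' (ψ.app V' (jH.equiv a)) +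
            toLinₗ (qP q F) (qP q G) V' (ψ.app V' (jH.equiv b))) ?_ ?_
          · rw [map_add, map_add]
            exact map_add _ _ _
          · rw [ha, hb, map_add, map_add]
        | tmul b f =>
          rw [IsBaseChange.equiv_tmul, Scheme.Modules.Hom.app_smul,
            show e₀ (b ⊗ₜ f) = b ⊗ₜ toLin f from rfl, IsBaseChange.equiv_tmul, map_smul]
          refine congrArg (b • ·) (ext_pullLin q hV hV' hle _ _ fun m => ?_)
          rw [IsBaseChange.linearMapLeftRightHom_comp_apply]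
          show toLin (ψ.app V' ((qP q _).presheaf.map (homOfLE hle).op (OmegaSh.pullSect q _ V f)))
              ((qP q F).presheaf.map (homOfLE hle).op (OmegaSh.pullSect q F V m)) =
            (qP q G).presheaf.map (homOfLE hle).op (OmegaSh.pullSect q G V (toLin f m))
          rw [H11Tilde.app_map_apply ψ hle, hψs V f, hτ V ⟨hV, hfree, hfin⟩ f, toLin_res, bcSec_spec]
      have hb : Function.Bijective fun z => toLinₗ (qP q F) (qP q G) V' (ψ.app V' (jH.equiv z)) := by
        rw [funext key]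
        exact L.equiv.bijective.comp e₀.bijective
      exact (Function.Bijective.of_comp_iff' (bijective_toLinₗ (qP q F) (qP q G) hq hV') _).1
        ((Function.Bijective.of_comp_iff _ jH.equiv.bijective).1 hb)
    exact isIso_of_reflects_iso ψ (shF X')
  refine ⟨asIso ψ, fun φ => ?_⟩
  refine Subtype.ext (funext fun y => ?_)
  obtain ⟨U, hU, hxU, -⟩ := exists_freeOn hF ⊤ (q.base y.1) trivial
  have h1 : (RefHull.homSh (qP q F) (qP q G)).presheaf.map (homOfLE (le_top : q ⁻¹ᵁ U ≤ ⊤)).op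
      (ψ.app ⊤ (OmegaSh.pullSect q _ ⊤ (RefHull.ofHom φ ⊤))) =
      RefHull.ofHom ((Scheme.Modules.pullback q).map φ) (q ⁻¹ᵁ U) := by
    rw [← H11Tilde.app_map_apply ψ le_top]
    refine (congrArg (ψ.app (q ⁻¹ᵁ U))
      (OmegaSh.pullSect_map q _ (le_top : U ≤ ⊤) _).symm).trans ?_
    refine ((hψs U _).trans (hτ U hU _)).trans ?_
    refine ((existsUnique_bcHom q hU.1 _).choose_spec.2 _ fun m => ?_).symm
    rw [toLin_ofHom, ← H17.PullSect.pullSect_natural]
    exact congrArg (OmegaSh.pullSect q G U) (toLin_ofHom φ U m).symm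
  exact congrFun (congrArg Subtype.val h1) ⟨y.1, hxU⟩

end Groth.Agent.H10Coh.SheafHom
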