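import Groth.Agent.H29Ref.HomSections
import Groth.Agent.H16Derived.KFlat.StalkTensor
import Groth.Agent.H11Tilde.ModLoc

/-!
# The sheaf Hom of families of stalk maps is right adjoint to the tensor product
-/

set_option autoImplicit false

universe u

open CategoryTheory CategoryTheory.Limits AlgebraicGeometry Opposite TopologicalSpace TensorProduct MonoidalCategory

namespace Groth.Agent.H10Coh.SheafHom

open Groth.Agent.H16Derived.KFlat.Stalk Groth.Agent.H29Ref

variable {X : Scheme.{u}} {F N G : X.Modules}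

/-- Morphisms out of a tensor product are determined on products of sections. -/
theorem tensor_ext {a b : tensor F N ⟶ G}
    (h : ∀ (U : X.Opens) (m : Γ(F, U)) (n : Γ(N, U)), a.app U (tensorSect U m n) = b.app U (tensorSect U m n)) :
    a = b := by
  apply ((PresheafOfModules.sheafificationAdjunction (R := X.ringCatSheaf)
    (𝟙 X.ringCatSheaf.obj)).homEquiv (CohB1.tensorPre F N) G).injective
  rw [Adjunction.homEquiv_unit, Adjunction.homEquiv_unit]
  exact PresheafOfModules.hom_ext fun U => ModuleCat.MonoidalCategory.tensor_ext fun m n => h U.unop m n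

theorem map_tensorSect {N' : X.Modules} (g : N' ⟶ N) (U : X.Opens) (m : Γ(F, U)) (n : Γ(N', U)) :
    (((DCoh.tensorBi (X := X)).obj F).map g).app U (tensorSect U m n) = tensorSect U m (g.app U n) := by
  have h := (PresheafOfModules.sheafificationAdjunction (R := X.ringCatSheaf) (𝟙 X.ringCatSheaf.obj)).unit.naturality
    ((DCoh.toP (X := X)).obj F ◁ (DCoh.toP (X := X)).map g)
  exact (congr($(congr(PresheafOfModules.Hom.app $h (op U))).hom
    ((show (CohB1.toPMod F).obj (op U) from m) ⊗ₜ (show (CohB1.toPMod N').obj (op U) from n)))).symm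

/-- The family of stalk maps attached to a section of `N`. -/
noncomputable def curryFun (φ : tensor F N ⟶ G) (U : X.Opens) (n : Γ(N, U)) : Γ(RefHull.homSh F G, U) :=
  ⟨fun x => (RefHull.stalkMapₗ φ x.1).comp ((pairLin F N x.1).flip (N.presheaf.germ U x.1 x.2 n)),
    fun V i m x => ⟨V, x.2, 𝟙 V, φ.app V (tensorSect V m (N.presheaf.map i.op n)), fun y => by
      show RefHull.stalkMapₗ φ y.1 (pair F N y.1 (F.presheaf.germ V y.1 y.2 m)
        (N.presheaf.germ U y.1 (i.le y.2) n)) = _
      rw [← N.presheaf.germ_res_apply i y.1 y.2 n, pair_germ, RefHull.stalkMapₗ_germ]⟩⟩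

theorem curryFun_apply (φ : tensor F N ⟶ G) (U : X.Opens) (n : Γ(N, U)) (x : U)
    (v : F.presheaf.stalk x.1) :
    (curryFun φ U n).1 x v = RefHull.stalkMapₗ φ x.1 (pair F N x.1 v (N.presheaf.germ U x.1 x.2 n)) := rfl

/-- The transpose `N → 𝓗om(F, G)` of `F ⊗ N → G`. -/
noncomputable def curry (φ : tensor F N ⟶ G) : N ⟶ RefHull.homSh F G :=
  ⟨PresheafOfModules.homMk
    { app := fun W => AddCommGrpCat.ofHom (AddMonoidHom.mk' (curryFun φ W.unop) fun (n n' : Γ(N, W.unop)) =>
        Subtype.ext (funext fun x => LinearMap.ext fun v => by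
          show RefHull.stalkMapₗ φ x.1 (pairLin F N x.1 v (N.presheaf.germ W.unop x.1 x.2 (n + n'))) = _
          rw [map_add, map_add, map_add]
          rfl))
      naturality := fun W W' i => by
        ext n
        refine Subtype.ext (funext fun x => LinearMap.ext fun v => ?_)
        show RefHull.stalkMapₗ φ x.1 (pair F N x.1 v
            (N.presheaf.germ W'.unop x.1 x.2 (N.presheaf.map i n))) =
          RefHull.stalkMapₗ φ x.1 (pair F N x.1 v (N.presheaf.germ W.unop x.1 (i.unop.le x.2) n))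
        rw [← Quiver.Hom.op_unop i, N.presheaf.germ_res_apply i.unop x.1 x.2 n] }
    fun W r n => Subtype.ext (funext fun x => LinearMap.ext fun v => by
      show RefHull.stalkMapₗ φ x.1 (pairLin F N x.1 v (N.presheaf.germ W.unop x.1 x.2
          ((show Γ(X, W.unop) from r) • (show Γ(N, W.unop) from n)))) =
        X.presheaf.germ W.unop x.1 x.2 r •
          RefHull.stalkMapₗ φ x.1 (pairLin F N x.1 v (N.presheaf.germ W.unop x.1 x.2 n))
      rw [Mero.germ_smul, map_smul, map_smul])⟩

theorem curry_app (φ : tensor F N ⟶ G) (U : X.Opens) (n : Γ(N, U)) :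
    (curry φ).app U n = curryFun φ U n := rfl

/-- The transpose `F ⊗ N → G` of `N → 𝓗om(F, G)`. -/
noncomputable def uncurry (ψ : N ⟶ RefHull.homSh F G) : tensor F N ⟶ G :=
  desc (fun U m n => toLin (ψ.app U n) m)
    (fun U m m' n => map_add _ _ _)
    (fun U r m n => map_smul _ _ _)
    (fun U m n n' => by
      show toLinₗ F G U (ψ.app U (n + n')) m = toLinₗ F G U (ψ.app U n) m + toLinₗ F G U (ψ.app U n') m
      rw [map_add, map_add]; rfl)
    (fun U r m n => by
      show toLinₗ F G U (ψ.app U (r • n)) m = r • toLinₗ F G U (ψ.app U n) m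
      rw [Scheme.Modules.Hom.app_smul, map_smul]; rfl)
    (fun U V i m n => sec_ext G fun y hy => by
      refine (germ_toLin _ _ ⟨y, hy⟩).trans ?_
      refine Eq.trans ?_ (G.presheaf.germ_res_apply i y hy _).symm
      refine Eq.trans ?_ (germ_toLin _ _ ⟨y, i.le hy⟩).symm
      rw [F.presheaf.germ_res_apply i y hy m]
      exact congrArg (fun g : Γ(RefHull.homSh F G, V) => g.1 ⟨y, hy⟩ (F.presheaf.germ U y (i.le hy) m))
        (H11Tilde.app_map_apply ψ i.le n))

theorem uncurry_tensorSect (ψ : N ⟶ RefHull.homSh F G) (U : X.Opens) (m : Γ(F, U)) (n : Γ(N, U)) :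
    (uncurry ψ).app U (tensorSect U m n) = toLin (ψ.app U n) m :=
  desc_tensorSect _ _ _ _ _ _ U m n

/-- `Hom(F ⊗ N, G) = Hom(N, 𝓗om(F, G))`. -/
noncomputable def homEquiv (F N G : X.Modules) : (tensor F N ⟶ G) ≃ (N ⟶ RefHull.homSh F G) where
  toFun := curry
  invFun := uncurry
  left_inv φ := tensor_ext fun U m n => by
    rw [uncurry_tensorSect]
    refine sec_ext G fun y hy => ?_
    rw [germ_toLin _ _ ⟨y, hy⟩, curry_app, curryFun_apply, pair_germ, RefHull.stalkMapₗ_germ]
  right_inv ψ := Scheme.Modules.hom_ext _ _ fun U => ConcreteCategory.hom_ext _ _ fun n => by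
    refine Subtype.ext (funext fun x => LinearMap.ext fun v => ?_)
    obtain ⟨V, hV, m, rfl⟩ := TopCat.Presheaf.exists_germ_eq F.presheaf v
    rw [← F.presheaf.germ_res_apply (homOfLE (inf_le_left : V ⊓ U ≤ V)) x.1 ⟨hV, x.2⟩]
    generalize F.presheaf.map (homOfLE (inf_le_left : V ⊓ U ≤ V)).op m = m'
    show RefHull.stalkMapₗ (uncurry ψ) x.1 (pair F N x.1 _ (N.presheaf.germ U x.1 x.2 n)) = _
    rw [← N.presheaf.germ_res_apply (homOfLE (inf_le_right : V ⊓ U ≤ U)) x.1 ⟨hV, x.2⟩, pair_germ,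
      RefHull.stalkMapₗ_germ, uncurry_tensorSect, germ_toLin _ _ (⟨x.1, ⟨hV, x.2⟩⟩ : ↥(V ⊓ U)),
      H11Tilde.app_map_apply ψ inf_le_right n]
    rfl

theorem curry_natural {N' : X.Modules} (g : N' ⟶ N) (φ : tensor F N ⟶ G) :
    curry (((DCoh.tensorBi (X := X)).obj F).map g ≫ φ) = g ≫ curry φ :=
  Scheme.Modules.hom_ext _ _ fun U => ConcreteCategory.hom_ext _ _ fun n => by
    refine Subtype.ext (funext fun x => LinearMap.ext fun v => ?_)
    obtain ⟨V, hV, m, rfl⟩ := TopCat.Presheaf.exists_germ_eq F.presheaf v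
    rw [← F.presheaf.germ_res_apply (homOfLE (inf_le_left : V ⊓ U ≤ V)) x.1 ⟨hV, x.2⟩]
    generalize F.presheaf.map (homOfLE (inf_le_left : V ⊓ U ≤ V)).op m = m'
    show RefHull.stalkMapₗ _ x.1 (pair F N' x.1 _ (N'.presheaf.germ U x.1 x.2 n)) =
      RefHull.stalkMapₗ φ x.1 (pair F N x.1 _ (N.presheaf.germ U x.1 x.2 (g.app U n)))
    rw [← N'.presheaf.germ_res_apply (homOfLE (inf_le_right : V ⊓ U ≤ U)) x.1 ⟨hV, x.2⟩,
      ← N.presheaf.germ_res_apply (homOfLE (inf_le_right : V ⊓ U ≤ U)) x.1 ⟨hV, x.2⟩, pair_germ, pair_germ,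
      RefHull.stalkMapₗ_germ, RefHull.stalkMapₗ_germ, ← H11Tilde.app_map_apply g inf_le_right n]
    refine congrArg (G.presheaf.germ _ x.1 _) (congrArg (φ.app (V ⊓ U)) ?_)
    exact map_tensorSect g (V ⊓ U) m' _

variable (F)

/-- The functor `G ↦ 𝓗om(F, G)`, as the right adjoint of `F ⊗ -`. -/
theorem hasSheafHom : DCoh.HasSheafHom F := by
  refine ⟨_, ⟨Adjunction.adjunctionOfEquivRight (G_obj := fun G => RefHull.homSh F G)
    (fun N G => homEquiv F N G) ?_⟩⟩
  intro N' N G g φ
  exact curry_natural g φ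

variable {F}

/-- The chosen sheaf Hom is that of families of stalk maps. -/
noncomputable def homShIso (F G : X.Modules) [DCoh.HasSheafHom F] :
    (DCoh.sheafHom F).obj G ≅ RefHull.homSh F G :=
  Yoneda.ext _ _
    (fun {N} ψ => homEquiv F N G (((DCoh.sheafHomAdj F).homEquiv N G).symm ψ))
    (fun {N} χ => (DCoh.sheafHomAdj F).homEquiv N G ((homEquiv F N G).symm χ))
    (fun {N} ψ => by simp)
    (fun {N} χ => by simp)
    (fun {N N'} g ψ => by
      rw [Adjunction.homEquiv_naturality_left_symm]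
      exact curry_natural g _)

end Groth.Agent.H10Coh.SheafHom
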