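import Groth.Agent.H10Coh.SheafHom.Pullback
import Groth.Agent.H28Pinch.DirectImageTrivial

/-!
# `𝓗om(L, L) = O` for invertible `L`
-/

set_option autoImplicit false
set_option linter.style.haveILetI false

universe u

open CategoryTheory CategoryTheory.Limits AlgebraicGeometry Opposite TopologicalSpace

namespace Groth.Agent.H10Coh.SheafHom

open Groth.Agent.H29Ref

variable {X : Scheme.{u}}

theorem isIso_of_bijective_basis {M N : X.Modules} (ψ : M ⟶ N) (B : X.Opens → Prop)
    (hB : ∀ (W : X.Opens) (x : X), x ∈ W → ∃ U, B U ∧ x ∈ U ∧ U ≤ W)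
    (h : ∀ U, B U → Function.Bijective (ψ.app U)) : IsIso ψ := by
  haveI : IsIso ((shF X).map ψ) := by
    refine TopCat.Sheaf.isIso_iff_isIso_basis (B := fun i : {U : X.Opens // B U} => i.1) ?_
      fun i => (ConcreteCategory.isIso_iff_bijective _).2 (h i.1 i.2)
    rw [Opens.isBasis_iff_nbhd]
    intro W x hx
    obtain ⟨U, hU, hxU, hle⟩ := hB W x hx
    exact ⟨U, ⟨⟨U, hU⟩, rfl⟩, hxU, hle⟩
  exact isIso_of_reflects_iso ψ (shF X)

theorem nonempty_endIso {L : X.Modules} (hL : PicF.IsInvertible L) :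
    Nonempty (Coh.structureModule X ≅ RefHull.homSh L L) := by
  haveI : L.IsQuasicoherent := H8Props.FinLocFree.isQCoh_of_isFinLocFree L (H28Pinch.isFinLocFree_of_isInvertible hL)
  let B : X.Opens → Prop := fun U => IsAffineOpen U ∧ Nonempty (Module.Basis (Fin 1) Γ(X, U) Γ(L, U))
  have hB : ∀ (W : X.Opens) (x : X), x ∈ W → ∃ U, B U ∧ x ∈ U ∧ U ≤ W := fun W x hx => by
    obtain ⟨V, hxV, ⟨e⟩⟩ := hL x
    obtain ⟨U, hU, hxU, hle⟩ := exists_isAffineOpen_mem_and_subset (U := W ⊓ V) (x := x) ⟨hx, hxV⟩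
    exact ⟨U, ⟨hU, H8Props.FinLocFree.exists_basis_of_chart L
      (e ≪≫ (coproductUniqueIso fun _ : Fin 1 => Coh.structureModule (↑V)).symm) fun y hy => (hle hy).2⟩, hxU,
      fun y hy => (hle hy).1⟩
  obtain ⟨θ, hθ⟩ := H17.PrinOmega.exists_hom_of_basis (Coh.structureModule X) (RefHull.homSh L L) B hB
    (fun U _ => LinearMap.toSpanSingleton Γ(X, U) _ (RefHull.ofHom (𝟙 L) U))
    fun U U' _ _ e r => by
      show X.presheaf.map (homOfLE e).op r • RefHull.ofHom (𝟙 L) U' =
        (RefHull.homSh L L).presheaf.map (homOfLE e).op ((show Γ(X, U) from r) • RefHull.ofHom (𝟙 L) U)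
      rw [Scheme.Modules.map_smul]
      rfl
  haveI : IsIso θ := isIso_of_bijective_basis θ B hB fun U hU => by
    obtain ⟨b⟩ := hU.2
    have he : ∀ (r : Γ(X, U)), toLinₗ L L U (θ.app U r) = r • LinearMap.id := fun r => by
      rw [hθ U hU r]
      refine (map_smul (toLinₗ L L U) r _).trans (congrArg (r • ·) (LinearMap.ext fun m => ?_))
      exact toLin_ofHom (𝟙 L) U m
    have h1 : Function.Bijective (fun r : Γ(X, U) => r • (LinearMap.id : Γ(L, U) →ₗ[Γ(X, U)] Γ(L, U))) := by
      refine ⟨fun r r' h => ?_, fun g => ⟨b.repr (g (b 0)) 0, b.ext fun i => ?_⟩⟩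
      · have := congrArg (fun g : Γ(L, U) →ₗ[Γ(X, U)] Γ(L, U) => b.repr (g (b 0)) 0) h
        simpa using this
      · obtain rfl : i = 0 := Subsingleton.elim _ _
        refine b.repr.injective (Finsupp.ext fun i => ?_)
        obtain rfl : i = 0 := Subsingleton.elim _ _
        simp
    have h2 : Function.Bijective (fun r => toLinₗ L L U (θ.app U r)) := by convert! h1 using 1; exact funext he
    exact (Function.Bijective.of_comp_iff' (bijective_toLinₗ L L inferInstance hU.1) _).1 h2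
  exact ⟨asIso θ⟩

end Groth.Agent.H10Coh.SheafHom
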