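import Groth.Agent.H10Coh.SheafHom.Pullback
import Groth.Agent.H8Props.FinLocFree.Global

/-!
# Flatness of finite locally free modules over a base; the sheaf Hom of finite locally free modules
-/

set_option autoImplicit false
set_option linter.style.haveILetI false

universe u

open CategoryTheory AlgebraicGeometry Opposite TopologicalSpace

namespace Groth.Agent.H10Coh.SheafHom

variable {X S : Scheme.{u}}

theorem isFlatOver_of_isFinLocFree (f : X ⟶ S) [Flat f] (M : X.Modules) (hM : FlatMod.IsFinLocFree M) :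
    FlatMod.IsFlatOver f M := fun x => by
  letI := (f.stalkMap x).hom.toAlgebra
  letI := FlatMod.moduleStalkOver f M x
  haveI : IsScalarTower (S.presheaf.stalk (f.base x)) (X.presheaf.stalk x) (M.presheaf.stalk x) :=
    .of_algebraMap_smul fun _ _ => rfl
  haveI : Module.Flat (S.presheaf.stalk (f.base x)) (X.presheaf.stalk x) := Flat.stalkMap f x
  haveI := H8Props.FinLocFree.free_stalk M hM x
  exact Module.Flat.trans (S.presheaf.stalk (f.base x)) (X.presheaf.stalk x) (M.presheaf.stalk x)

theorem isFinLocFree_homSh {F G : X.Modules} (hF : FlatMod.IsFinLocFree F) (hG : FlatMod.IsFinLocFree G) :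
    FlatMod.IsFinLocFree (RefHull.homSh F G) := by
  have hFq := H8Props.FinLocFree.isQCoh_of_isFinLocFree F hF
  have hGq := H8Props.FinLocFree.isQCoh_of_isFinLocFree G hG
  refine H8Props.FinLocFree.isFinLocFree_of_sections _
    (H29Ref.isQCoh_homSh F G (H8Props.FinLocFree.isFP_of_isFinLocFree F hF) hGq) fun x => ?_
  obtain ⟨U, ⟨hU, hfree, hfin⟩, hxU, -⟩ := exists_freeOn hF ⊤ x trivial
  obtain ⟨hfinG, hprojG⟩ := H8Props.FinLocFree.finite_projective_sections G hG hU
  let b := Module.Free.chooseBasis Γ(X, U) Γ(F, U)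
  let e := (LinearEquiv.ofBijective _ (H29Ref.bijective_toLinₗ F G hFq hU)).trans (b.constr Γ(X, U)).symm
  haveI : Module.Finite Γ(X, U) Γ(RefHull.homSh F G, U) := Module.Finite.equiv e.symm
  haveI : Module.Projective Γ(X, U) (Module.Free.ChooseBasisIndex Γ(X, U) Γ(F, U) → Γ(G, U)) :=
    Module.Projective.of_equiv (DFinsupp.linearEquivFunOnFintype (R := Γ(X, U))
      (M := fun _ : Module.Free.ChooseBasisIndex Γ(X, U) Γ(F, U) => Γ(G, U)))
  haveI : Module.Projective Γ(X, U) Γ(RefHull.homSh F G, U) := Module.Projective.of_equiv e.symm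
  exact ⟨U, hU, hxU, Module.finitePresentation_of_projective _ _, inferInstance⟩

end Groth.Agent.H10Coh.SheafHom
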